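import Groth.Agent.LenInsepLib.Tensor
import Groth.Agent.LenInsepLib.PerfectBC

/-! # Multiplicities and transitivity for a finite normal extension of the ground field -/

set_option autoImplicit false
set_option backward.isDefEq.respectTransparency false
set_option backward.isDefEq.respectTransparency.types false

universe u

open CategoryTheory CategoryTheory.Limits AlgebraicGeometry TensorProduct

noncomputable section

namespace CycNormalDescLib

variable {k : Type u} [Field k] (K : Type u) [Field K] [Algebra k K]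

section Algebra

theorem exists_length_dvd_aux {k : Type u} [Field k] (F K : Type u) [Field F] [Field K] [Algebra k F] [Algebra k K]
    [Algebra F K] [IsScalarTower k F K] [Module.Finite k F] [Algebra.IsSeparable k F] [IsPurelyInseparable F K]
    [Module.Finite F K] (L : Type u) [Field L] [Algebra k L] (q : Ideal (L ⊗[k] K)) [q.IsPrime] :
    ∃ a b : ℕ, a * b = Module.finrank F K ∧
      Module.length (Localization.AtPrime q) (Localization.AtPrime q) = (a : ℕ∞) := by
  let C := F ⊗[k] L
  haveI : Algebra.FormallyEtale k F := Algebra.FormallyEtale.of_isSeparable k F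
  haveI : IsReduced (L ⊗[k] F) := Algebra.FormallyUnramified.isReduced_of_field L (L ⊗[k] F)
  haveI : IsArtinianRing (L ⊗[k] F) := isArtinian_of_tower L inferInstance
  let ec := (Algebra.TensorProduct.comm k L F).toRingEquiv
  haveI : IsReduced C := isReduced_of_injective ec.symm ec.symm.injective
  haveI : IsArtinianRing C := Function.Surjective.isArtinianRing (f := ec.toRingHom) ec.surjective
  let e1 : C ⊗[F] K ≃+* K ⊗[F] C := (Algebra.TensorProduct.comm F C K).toRingEquiv
  let e2 : K ⊗[F] C ≃+* K ⊗[k] L := (Algebra.TensorProduct.cancelBaseChange k F K K L).toRingEquiv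
  let e3 : K ⊗[k] L ≃+* L ⊗[k] K := (Algebra.TensorProduct.comm k K L).toRingEquiv
  let e := (e1.trans e2).trans e3
  obtain ⟨a, b, hab, hlen⟩ := LenInsepLib.length_localization_dvd_finrank C F K (q.comap e.toRingHom)
  exact ⟨a, b, hab, (LenInsepLib.length_localization_congr e (q.comap e.toRingHom) q rfl).symm.trans hlen⟩

variable [Module.Finite k K]

/-- The lengths of the local rings of `L ⊗[k] K` divide the inseparable degree. -/
theorem exists_length_dvd (L : Type u) [Field L] [Algebra k L] (q : Ideal (L ⊗[k] K)) [q.IsPrime] :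
    ∃ a b : ℕ, a * b = Field.finInsepDegree k K ∧
      Module.length (Localization.AtPrime q) (Localization.AtPrime q) = (a : ℕ∞) :=
  haveI : IsPurelyInseparable (separableClosure k K) K := separableClosure.isPurelyInseparable k K
  haveI : Module.Finite (separableClosure k K) K := Module.Finite.of_restrictScalars_finite k (separableClosure k K) K
  exists_length_dvd_aux (separableClosure k K) K L q

end Algebra

/-- Two embeddings of a normal extension differ by an automorphism. -/
theorem exists_aut [Normal k K] (Ω : Type u) [Field Ω] [Algebra k Ω] (φ ψ : K →ₐ[k] Ω) :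
    ∃ σ : K ≃ₐ[k] K, ∀ c, ψ c = φ (σ c) := by
  let e := AlgEquiv.ofInjectiveField φ
  haveI : Normal k φ.fieldRange := Normal.of_algEquiv e
  have h := AlgHom.fieldRange_of_normal (E := φ.fieldRange) (ψ.comp e.symm.toAlgHom)
  have hr : ∀ c, ψ c ∈ φ.fieldRange := fun c => by
    rw [← h]
    exact ⟨e c, congrArg ψ (e.symm_apply_apply c)⟩
  choose g hg using hr
  let g' : K →ₐ[k] K :=
    e.symm.toAlgHom.comp ((ψ.codRestrict φ.fieldRange.toSubalgebra fun c => ⟨g c, hg c⟩))
  have hg' : ∀ c, φ (g' c) = ψ c := fun c => congrArg Subtype.val (e.apply_symm_apply _)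
  haveI : Algebra.IsAlgebraic k K := Normal.toIsAlgebraic
  exact ⟨AlgEquiv.ofBijective g' (Algebra.IsAlgebraic.algHom_bijective g'), fun c => (hg' c).symm⟩

/-- The multiplicity of a point over its image. -/
def mult {A B : Scheme.{u}} (π : A ⟶ B) (a : A) : ℕ :=
  (Module.length (A.presheaf.stalk a)
    (A.presheaf.stalk a ⧸ Ideal.map (π.stalkMap a).hom (IsLocalRing.maximalIdeal (B.presheaf.stalk (π a))))).toNat

theorem mult_comp_iso {A A' B : Scheme.{u}} (t : A ⟶ A') [IsIso t] (π : A' ⟶ B) (a : A) :
    mult (t ≫ π) a = mult π (t a) := by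
  let e := (asIso (t.stalkMap a)).commRingCatIsoToRingEquiv
  let I := Ideal.map (π.stalkMap (t a)).hom (IsLocalRing.maximalIdeal (B.presheaf.stalk (π (t a))))
  let J := Ideal.map ((t ≫ π).stalkMap a).hom (IsLocalRing.maximalIdeal (B.presheaf.stalk ((t ≫ π) a)))
  have hI : J = Ideal.map (e : _ →+* _) I := by
    show Ideal.map ((t ≫ π).stalkMap a).hom _ = _
    rw [Scheme.Hom.stalkMap_comp, CommRingCat.hom_comp, ← Ideal.map_map]
    rfl
  show (Module.length (A.presheaf.stalk a) (A.presheaf.stalk a ⧸ J)).toNat =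
    (Module.length (A'.presheaf.stalk (t a)) (A'.presheaf.stalk (t a) ⧸ I)).toNat
  rw [Module.length_eq_of_surjective (R := A.presheaf.stalk a ⧸ J) (S := A.presheaf.stalk a) Ideal.Quotient.mk_surjective,
    Module.length_eq_of_surjective (R := A'.presheaf.stalk (t a) ⧸ I) (S := A'.presheaf.stalk (t a)) Ideal.Quotient.mk_surjective]
  exact congrArg ENat.toNat (LenInsepLib.length_eq_of_ringEquiv (Ideal.quotientEquiv I J e hI)).symm

variable {X : Scheme.{u}} (f : X ⟶ Spec (CommRingCat.of k))

/-- The base change. -/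
abbrev bc : Scheme.{u} := pullback f (Spec.map (CommRingCat.ofHom (algebraMap k K)))

/-- The projection from the base change. -/
abbrev proj : bc K f ⟶ X := pullback.fst f (Spec.map (CommRingCat.ofHom (algebraMap k K)))

instance [Module.Finite k K] : IsFinite (Spec.map (CommRingCat.ofHom (algebraMap k K))) :=
  (IsFinite.SpecMap_iff _).2 (RingHom.finite_algebraMap.2 inferInstance)

theorem exists_mult_dvd [Module.Finite k K] (x' : bc K f) :
    mult (proj K f) x' ∣ Field.finInsepDegree k K ∧ mult (proj K f) x' ≠ 0 := by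
  let π := proj K f
  obtain ⟨z, hz⟩ : x' ∈ Set.range (π.fiberι (π x')) := by rw [π.range_fiberι]; rfl
  obtain ⟨ψ, hψ⟩ := Spec.map_surjective (X.fromSpecResidueField (π x') ≫ f)
  letI := ψ.hom.toAlgebra
  have sq := (IsPullback.of_hasPullback π (X.fromSpecResidueField (π x'))).flip.paste_vert
    (IsPullback.of_hasPullback f (Spec.map (CommRingCat.ofHom (algebraMap k K))))
  rw [← hψ] at sq
  let e : π.fiber (π x') ≅ Spec (CommRingCat.of (X.residueField (π x') ⊗[k] K)) :=
    sq.isoPullback ≪≫ pullbackSpecIso k (X.residueField (π x')) K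
  obtain ⟨a, b, hab, hlen⟩ := exists_length_dvd K (X.residueField (π x')) (e.hom z).asIdeal
  have hm : mult π x' = a := by
    unfold mult
    rw [LenInsepLib.length_quotient_eq π (π x') z x' hz, LenInsepLib.length_stalk_eq e z, hlen]
    rfl
  have hpos : 0 < Field.finInsepDegree k K := by
    rw [Field.finInsepDegree]
    exact Module.finrank_pos
  refine ⟨hm ▸ ⟨b, hab.symm⟩, hm ▸ ?_⟩
  rintro rfl
  simp at hab
  omega

theorem surjective_proj : Function.Surjective (proj K f) := by
  haveI : Surjective (Spec.map (CommRingCat.ofHom (algebraMap k K))) := ⟨fun _ =>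
    ⟨IsLocalRing.closedPoint K, @Subsingleton.elim (PrimeSpectrum k) inferInstance _ _⟩⟩
  exact (proj K f).surjective

/-- The action of an automorphism. -/
def act (σ : K ≃ₐ[k] K) : bc K f ⟶ bc K f :=
  pullback.map _ _ _ _ (𝟙 X) (Spec.map (CommRingCat.ofHom σ.toAlgHom.toRingHom)) (𝟙 _) (by simp) (by
    rw [Category.comp_id, ← Spec.map_comp, ← CommRingCat.ofHom_comp]
    congr 2
    ext c
    exact (σ.commutes c).symm)

theorem act_fst (σ : K ≃ₐ[k] K) : act K f σ ≫ proj K f = proj K f :=
  (pullback.lift_fst _ _ _).trans (Category.comp_id _)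

theorem act_snd (σ : K ≃ₐ[k] K) :
    act K f σ ≫ pullback.snd f (Spec.map (CommRingCat.ofHom (algebraMap k K))) =
      pullback.snd f (Spec.map (CommRingCat.ofHom (algebraMap k K))) ≫
        Spec.map (CommRingCat.ofHom σ.toAlgHom.toRingHom) :=
  pullback.lift_snd _ _ _

instance (σ : K ≃ₐ[k] K) : IsIso (act K f σ) := by
  haveI : IsIso (CommRingCat.ofHom σ.toAlgHom.toRingHom) := (ConcreteCategory.isIso_iff_bijective _).2 σ.bijective
  unfold act
  exact pullback.map_isIso _ _ _ _ _ _ _ _ _

theorem base_eq {A B : Scheme.{u}} {g g' : A ⟶ B} (h : g = g') (a : A) : g a = g' a := by rw [h]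

theorem mult_act (σ : K ≃ₐ[k] K) (x' : bc K f) : mult (proj K f) (act K f σ x') = mult (proj K f) x' := by
  rw [← mult_comp_iso, act_fst]

theorem exists_act_pt [Normal k K] (Ω : Type u) [Field Ω] (g₁ g₂ : Spec (CommRingCat.of Ω) ⟶ bc K f)
    (hp : g₁ ≫ proj K f = g₂ ≫ proj K f) : ∃ σ : K ≃ₐ[k] K, g₁ ≫ act K f σ = g₂ := by
  obtain ⟨φ₁, hφ₁⟩ := Spec.map_surjective (g₁ ≫ pullback.snd f (Spec.map (CommRingCat.ofHom (algebraMap k K))))
  obtain ⟨φ₂, hφ₂⟩ := Spec.map_surjective (g₂ ≫ pullback.snd f (Spec.map (CommRingCat.ofHom (algebraMap k K))))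
  have hk : CommRingCat.ofHom (algebraMap k K) ≫ φ₁ = CommRingCat.ofHom (algebraMap k K) ≫ φ₂ := by
    apply Spec.map_injective
    rw [Spec.map_comp, Spec.map_comp, hφ₁, hφ₂, Category.assoc, Category.assoc, ← pullback.condition,
      ← Category.assoc, hp, Category.assoc]
  letI : Algebra k Ω := (φ₁.hom.comp (algebraMap k K)).toAlgebra
  let a₁ : K →ₐ[k] Ω := { φ₁.hom with commutes' := fun _ => rfl }
  let a₂ : K →ₐ[k] Ω := { φ₂.hom with
    commutes' := fun c => (RingHom.congr_fun (congrArg CommRingCat.Hom.hom hk) c).symm }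
  obtain ⟨σ, hσ⟩ := exists_aut K Ω a₁ a₂
  refine ⟨σ, pullback.hom_ext ?_ ?_⟩
  · show (g₁ ≫ act K f σ) ≫ proj K f = _
    rw [Category.assoc, act_fst, hp]
  · rw [Category.assoc, act_snd, ← Category.assoc, ← hφ₁, ← hφ₂, ← Spec.map_comp]
    congr 1
    ext c
    exact (hσ c).symm

/-- Transitivity on the fibres. -/
theorem exists_act [Normal k K] {x₁ x₂ : bc K f} (h : proj K f x₁ = proj K f x₂) :
    ∃ σ : K ≃ₐ[k] K, act K f σ x₁ = x₂ := by
  obtain ⟨w, hw1, hw2⟩ := Scheme.Pullback.exists_preimage_pullback x₁ x₂ h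
  let pt : Spec (CommRingCat.of ((pullback (proj K f) (proj K f)).residueField w)) ⟶ pullback (proj K f) (proj K f) :=
    (pullback (proj K f) (proj K f)).fromSpecResidueField w
  obtain ⟨σ, hσ⟩ := exists_act_pt K f ((pullback (proj K f) (proj K f)).residueField w)
    (pt ≫ pullback.fst (proj K f) (proj K f)) (pt ≫ pullback.snd (proj K f) (proj K f))
    (by rw [Category.assoc, Category.assoc, pullback.condition])
  refine ⟨σ, ?_⟩
  have hpt : pt (IsLocalRing.closedPoint _) = w := Scheme.fromSpecResidueField_apply _ _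
  rw [← hw1, ← hw2, ← hpt]
  exact base_eq hσ _

end CycNormalDescLib

end
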